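import Cfsg.Agent.H95.J2Sec.Homs
import Cfsg.Agent.H95.J2Sec.Keys

/-!
The centraliser of the scalar of order five: a chain of candidates for the images of six roots.
-/

set_option autoImplicit false
set_option maxRecDepth 20000

namespace H95.J2Sec

open Cfsg Finset
open H96 H96.J2 Cfsg.Spor

/-- powers of the scalar on coordinates -/
def powV : ℕ → V3 → V3
  | 0, v => v
  | i + 1, v => V3.lsmul zQ (powV i v)

theorem powV_inL {v : V3} (hv : v.inL = true) : ∀ i, (powV i v).inL = true
  | 0 => hv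
  | i + 1 => V3.inL_lsmul zQ_inI (powV_inL hv i)

theorem aEl_pow_vp {v : V3} (hv : v.inL = true) (i : ℕ) : aEl ^ i • vp v = vp (powV i v) := by
  induction i with
  | zero => rw [pow_zero, one_smul]; rfl
  | succ i ih => rw [pow_succ', mul_smul, ih, aEl_vp (powV_inL hv i)]; rfl

/-- the six roots -/
def baseV (m : ℕ) : V3 :=
  V3.lsmul (Q8.unit (baseIdx.getD m (0, 0)).1) (line (baseIdx.getD m (0, 0)).2)

theorem base_roots : ((List.range 6).all fun m => (baseV m).isRoot) = true ∧ baseV 0 = e0 := by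
  decide +kernel

theorem baseV_root {m : ℕ} (h : m < 6) : (baseV m).isRoot = true :=
  List.all_eq_true.mp base_roots.1 m (List.mem_range.mpr h)

theorem baseV_inL {m : ℕ} (h : m < 6) : (baseV m).inL = true :=
  (V3.isRoot_iff.mp (baseV_root h)).1

/-- the known products at a level -/
def keys (j : ℕ) : List (V3 × ℤ) :=
  (List.range j).flatMap fun m => (List.range 5).map fun i =>
    (powV i (baseV m), bval (V3.dot (powV i (baseV m)) (baseV j)))

/-- field of a packed number -/
def fld (n i : ℕ) : ℕ := n / 2 ^ (8 * i) % 256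

/-- sum of the fields -/
def fsum (n : ℕ) : ℕ :=
  fld n 0 + fld n 1 + fld n 2 + fld n 3 + fld n 4 + fld n 5 + fld n 6 + fld n 7

/-- product of the fields -/
def fdot (n m : ℕ) : ℕ := fld n 0 * fld m 0 + fld n 1 * fld m 1 + fld n 2 * fld m 2 +
  fld n 3 * fld m 3 + fld n 4 * fld m 4 + fld n 5 * fld m 5 + fld n 6 * fld m 6 + fld n 7 * fld m 7

/-- the quick test, on natural numbers -/
def preB (n m t : ℕ) : Bool := Nat.beq (2 * fdot n m + 4096 + 1024) (t + 32 * fsum n + 32 * fsum m)

/-- coordinates of a quaternion -/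
def flQ (c : Q8) : List ℤ := [c.x0.a, c.x0.b, c.x1.a, c.x1.b, c.x2.a, c.x2.b, c.x3.a, c.x3.b]

/-- weights of a unit -/
def wQ (u : Q8) : List ℤ := [u.x0.a + u.x0.b, u.x0.a + 2 * u.x0.b, u.x1.a + u.x1.b,
  u.x1.a + 2 * u.x1.b, u.x2.a + u.x2.b, u.x2.a + 2 * u.x2.b, u.x3.a + u.x3.b, u.x3.a + 2 * u.x3.b]

/-- fields with their offset removed -/
def unfld (n : ℕ) : List ℤ := (List.range 8).map fun i => (fld n i : ℤ) - 16

/-- the key with a given number at the last level -/
def lastKey (k : ℕ) : V3 := ((keyData.getD 4 []).getD k (⟨Q8.zero, Q8.zero, Q8.zero⟩, 0)).1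

/-- key number `k` at a level -/
def levKey (j k : ℕ) : V3 × ℤ := (keyData.getD (j - 1) []).getD k (⟨Q8.zero, Q8.zero, Q8.zero⟩, 0)

/-- the wanted product of a tabulated key -/
def tgtN (j t : ℕ) : ℕ := ((levKey j (tabKey.getD t 0)).2 + 1024).toNat

/-- the quick test for the three tables of a level -/
def quickB (j : ℕ) (r : ℕ × ℕ × ℕ) (w : ℕ) : Bool :=
  preB r.1 w (tgtN j (tabSel.getD (j - 1) (0, 0, 0)).1) &&
    preB r.2.1 w (tgtN j (tabSel.getD (j - 1) (0, 0, 0)).2.1) &&
    preB r.2.2 w (tgtN j (tabSel.getD (j - 1) (0, 0, 0)).2.2)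

/-- only the listed roots have the known products -/
def scanB (j : ℕ) : Bool :=
  let s := tabSel.getD (j - 1) (0, 0, 0)
  (((lineTab.getD s.1 []).zip ((lineTab.getD s.2.1 []).zip (lineTab.getD s.2.2 []))).zipIdx).all fun r =>
    unitTab.zipIdx.all fun u =>
      !(quickB j r.1 u.1) ||
        !((keyData.getD (j - 1) []).all fun k =>
          bval (Q8.mul (V3.dot k.1 (line r.2)) (Q8.unit u.2).conj) == k.2) ||
        ((levelData.getD (j - 1) []).map Prod.fst).contains (u.2, r.2)

theorem tab_units : units.map wQ = unitTab.map unfld := by decide +kernel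

theorem tab_lines : lineTab.map (fun t => t.map unfld) =
    tabKey.map (fun k => lines.map fun l => flQ (V3.dot (lastKey k) l)) := by decide +kernel

theorem keys_ok : ((List.range 5).all fun j => decide (keyData.getD j [] = keys (j + 1))) = true ∧
    ((List.range 5).all fun j => [(tabSel.getD j (0, 0, 0)).1, (tabSel.getD j (0, 0, 0)).2.1,
      (tabSel.getD j (0, 0, 0)).2.2].all fun t => decide (t < 9) &&
        decide (tabKey.getD t 0 < (keyData.getD j []).length) &&
        decide ((levKey (j + 1) (tabKey.getD t 0)).1 = lastKey (tabKey.getD t 0)) &&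
        decide (-1024 ≤ (levKey (j + 1) (tabKey.getD t 0)).2)) = true := by decide +kernel

/-- each listed root is reached -/
def reachB (j : ℕ) : Bool :=
  (levelData.getD (j - 1) []).all fun e => H89.J2Two.okW e.2.2 &&
    (List.range j).all (fun m => decide (powV e.2.1 (applyWord e.2.2 (baseV m)) = baseV m)) &&
    decide (powV e.2.1 (applyWord e.2.2 (baseV j)) = V3.lsmul (Q8.unit e.1.1) (line e.1.2))

theorem scan1 : scanB 1 = true := by decide +kernel
theorem scan2 : scanB 2 = true := by decide +kernel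
theorem scan3 : scanB 3 = true := by decide +kernel
theorem scan4 : scanB 4 = true := by decide +kernel
theorem scan5 : scanB 5 = true := by decide +kernel
theorem reach_all : ((List.range 5).all fun j => reachB (j + 1)) = true := by decide +kernel

theorem scan_ok {j : ℕ} (h1 : 1 ≤ j) (h5 : j ≤ 5) : scanB j = true := by
  interval_cases j
  exacts [scan1, scan2, scan3, scan4, scan5]

theorem preB_of {n m : ℕ} {c u : Q8} (hc : c.inI = true) (hu : u.inI = true) (hn : flQ c = unfld n)
    (hm : wQ u = unfld m) {v : ℤ} (hv : bval (Q8.mul c u.conj) = v) (h0 : -1024 ≤ v) :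
    preB n m (v + 1024).toNat = true := by
  have h := (Q8.rmul_spec hc (Q8.inI_conj hu)).1
  simp only [Q8.even, Bool.and_eq_true, Zt.even_iff] at h
  obtain ⟨⟨⟨⟨ea, eb⟩, -⟩, -⟩, -⟩ := h
  simp only [flQ, wQ, unfld, List.range_succ, List.range_zero, List.nil_append,
    List.map_cons, List.map_nil, List.cons_append, List.cons.injEq, and_true] at hn hm
  obtain ⟨n0, n1, n2, n3, n4, n5, n6, n7⟩ := hn
  obtain ⟨m0, m1, m2, m3, m4, m5, m6, m7⟩ := hm
  have hS : (Q8.rmul c u.conj).x0.a + (Q8.rmul c u.conj).x0.b =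
      c.x0.a * (u.x0.a + u.x0.b) + c.x0.b * (u.x0.a + 2 * u.x0.b) +
      c.x1.a * (u.x1.a + u.x1.b) + c.x1.b * (u.x1.a + 2 * u.x1.b) +
      c.x2.a * (u.x2.a + u.x2.b) + c.x2.b * (u.x2.a + 2 * u.x2.b) +
      c.x3.a * (u.x3.a + u.x3.b) + c.x3.b * (u.x3.a + 2 * u.x3.b) := by
    simp only [Q8.rmul, Q8.conj, Zt.mul, Zt.sub, Zt.neg]; ring
  rw [n0, n1, n2, n3, n4, n5, n6, n7, m0, m1, m2, m3, m4, m5, m6, m7] at hS
  have hb : v = 2 * ((Q8.rmul c u.conj).x0.a + (Q8.rmul c u.conj).x0.b) := by
    rw [← hv]; simp only [bval, Q8.mul, Q8.half, Zt.half]; omega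
  rw [hS] at hb
  unfold preB
  suffices e : 2 * fdot n m + 4096 + 1024 = (v + 1024).toNat + 32 * fsum n + 32 * fsum m by
    rw [e]; exact Nat.beq_refl _
  zify
  rw [Int.toNat_of_nonneg (by omega), hb]
  simp only [fdot, fsum]
  push_cast
  ring

theorem scan_mem {j ui li : ℕ} (h1 : 1 ≤ j) (h5 : j ≤ 5) (hui : ui < units.length) (hli : li < 315)
    (hkeys : ∀ k ∈ keys j, bval (Q8.mul (V3.dot k.1 (line li)) units[ui].conj) = k.2) :
    (ui, li) ∈ (levelData.getD (j - 1) []).map Prod.fst := by
  obtain ⟨ha, hb⟩ := keys_ok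
  have hk : keyData.getD (j - 1) [] = keys j := by
    have := List.all_eq_true.mp ha (j - 1) (List.mem_range.mpr (by omega))
    rwa [decide_eq_true_eq, Nat.sub_add_cancel h1] at this
  have hlen : lineTab.length = 9 ∧ tabKey.length = 9 := by decide +kernel
  have hlines : li < lines.length := lines_length ▸ hli
  have hrow : ∀ t < 9, ∃ (hl : li < (lineTab.getD t []).length),
      unfld (lineTab.getD t [])[li] = flQ (V3.dot (lastKey (tabKey.getD t 0)) lines[li]) := by
    intro t ht
    have e := congrArg (fun L => L.getD t []) tab_lines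
    rw [List.getD_eq_getElem _ _ (by simpa [hlen.1] using ht),
      List.getD_eq_getElem _ _ (by simpa [hlen.2] using ht), List.getElem_map, List.getElem_map] at e
    rw [List.getD_eq_getElem _ _ (hlen.1 ▸ ht), List.getD_eq_getElem _ _ (hlen.2 ▸ ht)]
    have hl : li < lineTab[t].length := by
      have := congrArg List.length e
      simp only [List.length_map] at this
      omega
    refine ⟨hl, ?_⟩
    have e' := congrArg (fun L => L.getD li []) e
    rwa [List.getD_eq_getElem _ _ (by rw [List.length_map]; exact hl), List.getD_eq_getElem _ _ (by simpa using hlines),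
      List.getElem_map, List.getElem_map] at e'
  have hu : ui < unitTab.length := by
    have := congrArg List.length tab_units
    simp only [List.length_map] at this
    omega
  have hw : wQ units[ui] = unfld unitTab[ui] := by
    have e := congrArg (fun L => L.getD ui []) tab_units
    rwa [List.getD_eq_getElem _ _ (by simpa using hui), List.getD_eq_getElem _ _ (by simpa using hu),
      List.getElem_map, List.getElem_map] at e
  set s := tabSel.getD (j - 1) (0, 0, 0) with hs
  have hsel : ∀ t ∈ [s.1, s.2.1, s.2.2], ∃ (_ : t < 9) (hl : li < (lineTab.getD t []).length),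
      preB (lineTab.getD t [])[li] unitTab[ui] (tgtN j t) = true := by
    intro t ht
    have h := List.all_eq_true.mp (List.all_eq_true.mp hb (j - 1) (List.mem_range.mpr (by omega))) t ht
    simp only [Bool.and_eq_true, decide_eq_true_eq, Nat.sub_add_cancel h1] at h
    obtain ⟨⟨⟨h9, hlt⟩, hkey⟩, hneg⟩ := h
    obtain ⟨hl, hr⟩ := hrow t h9
    refine ⟨h9, hl, ?_⟩
    have hmem : levKey j (tabKey.getD t 0) ∈ keys j := by
      rw [levKey, List.getD_eq_getElem _ _ hlt, ← hk]; exact List.getElem_mem hlt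
    have hv := hkeys _ hmem
    have hline : line li = lines[li] := List.getD_eq_getElem _ _ hlines
    rw [hline, hkey] at hv
    refine preB_of ?_ (unit_spec (List.getElem_mem hui)).1 hr.symm hw hv hneg
    have hI : ∀ k ∈ keys j, (k.1).inI3 = true := by
      simp only [keys, List.mem_flatMap, List.mem_map, List.mem_range]
      rintro _ ⟨m, hm, i, -, rfl⟩
      exact V3.inI3_of_inL (powV_inL (baseV_inL (by omega)) i)
    obtain ⟨a, b, c⟩ := V3.inI3_iff.mp (hkey ▸ hI _ hmem)
    obtain ⟨d, e, f⟩ := V3.inI3_iff.mp (hline ▸ line_inI3 hli)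
    exact Q8.inI_add (Q8.inI_add (Q8.inI_mul a (Q8.inI_conj d)) (Q8.inI_mul b (Q8.inI_conj e)))
      (Q8.inI_mul c (Q8.inI_conj f))
  obtain ⟨-, l1, p1⟩ := hsel s.1 (by simp)
  obtain ⟨-, l2, p2⟩ := hsel s.2.1 (by simp)
  obtain ⟨-, l3, p3⟩ := hsel s.2.2 (by simp)
  have hz : li < ((lineTab.getD s.1 []).zip ((lineTab.getD s.2.1 []).zip (lineTab.getD s.2.2 []))).length := by
    simp only [List.length_zip]; omega
  have h := scan_ok h1 h5
  rw [scanB] at h
  have h' := List.all_eq_true.mp (List.all_eq_true.mp h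
    (((lineTab.getD s.1 [])[li], (lineTab.getD s.2.1 [])[li], (lineTab.getD s.2.2 [])[li]), li)
    (List.mem_zipIdx_iff_getElem?.mpr (by
      rw [List.getElem?_eq_getElem hz, List.getElem_zip, List.getElem_zip])))
    (unitTab[ui], ui) (List.mem_zipIdx_iff_getElem?.mpr (List.getElem?_eq_getElem hu))
  have hq : quickB j ((lineTab.getD s.1 [])[li], (lineTab.getD s.2.1 [])[li], (lineTab.getD s.2.2 [])[li])
      unitTab[ui] = true := by
    simp only [quickB, ← hs, p1, p2, p3, Bool.and_self]
  have hall : ((keyData.getD (j - 1) []).all fun k =>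
      bval (Q8.mul (V3.dot k.1 (line li)) (Q8.unit ui).conj) == k.2) = true := by
    rw [hk]
    simp only [List.all_eq_true, beq_iff_eq]
    intro k hkm
    rw [show Q8.unit ui = units[ui] from List.getD_eq_getElem _ _ hui]
    exact hkeys k hkm
  simp only [hq, hall, Bool.not_true, Bool.false_or, List.contains_iff_mem] at h'
  exact h'

theorem dot_lsmul {x l : V3} {u : Q8} (hx : x.inI3 = true) (hu : u.inI = true) (hl : l.inI3 = true) :
    V3.dot x (V3.lsmul u l) = Q8.mul (V3.dot x l) u.conj := by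
  refine Q8.val_inj ?_
  have hd : (V3.dot x l).inI = true := by
    obtain ⟨a, b, c⟩ := V3.inI3_iff.mp hx
    obtain ⟨d, e, f⟩ := V3.inI3_iff.mp hl
    exact Q8.inI_add (Q8.inI_add (Q8.inI_mul a (Q8.inI_conj d)) (Q8.inI_mul b (Q8.inI_conj e)))
      (Q8.inI_mul c (Q8.inI_conj f))
  rw [V3.val_dot hx (V3.inI3_lsmul hu hl), Q8.val_mulI hd (Q8.inI_conj hu), V3.val_dot hx hl,
    Q8.val_conj, show (V3.lsmul u l).val = lmul u.val l.val from V3.val_lsmul hu hl, qip_lmul_right]

theorem root_iff {v : V3} (hv : v.inL = true) :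
    v.isRoot = true ↔ ldot (vp v) (vp v) = 32 ∧ ldot (vp v) (aEl • vp v) = 0 := by
  have hI := V3.inI3_of_inL hv
  have hd : (V3.dot v v).inI = true := by
    obtain ⟨a, b, c⟩ := V3.inI3_iff.mp hI
    exact Q8.inI_add (Q8.inI_add (Q8.inI_mul a (Q8.inI_conj a)) (Q8.inI_mul b (Q8.inI_conj b)))
      (Q8.inI_mul c (Q8.inI_conj c))
  have hself : (V3.dot v v).conj = V3.dot v v :=
    Q8.val_inj (by rw [Q8.val_conj, V3.val_dot hI hI, star_qip])
  rw [aEl_vp hv, ldot_vp hv hv, ldot_vp hv (V3.inL_lsmul zQ_inI hv), dot_lsmul hI zQ_inI hI,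
    V3.isRoot, hv, Bool.true_and, decide_eq_true_eq]
  generalize hc : V3.dot v v = c at hd hself ⊢
  obtain ⟨⟨a, b⟩, ⟨a1, b1⟩, ⟨a2, b2⟩, ⟨a3, b3⟩⟩ := c
  simp only [Q8.conj, Zt.neg, Q8.mk.injEq, Zt.mk.injEq, true_and] at hself
  rw [Q8.inI_iff] at hd
  simp only at hd
  obtain ⟨⟨e1, f1⟩, ⟨e2, f2⟩, ⟨e3, f3⟩⟩ := hself
  obtain rfl : a1 = 0 := by omega
  obtain rfl : b1 = 0 := by omega
  obtain rfl : a2 = 0 := by omega
  obtain rfl : b2 = 0 := by omega
  obtain rfl : a3 = 0 := by omega
  obtain rfl : b3 = 0 := by omega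
  have hz : zQ = ⟨⟨-1, 1⟩, ⟨1, 0⟩, ⟨0, -1⟩, ⟨0, 0⟩⟩ := by decide +kernel
  simp only [hz, bval, Q8.mul, Q8.rmul, Q8.half, Q8.conj, Q8.four, Q8.mk8, Zt.mul, Zt.sub, Zt.neg,
    Zt.half, Q8.mk.injEq, Zt.mk.injEq]
  simp only [mul_neg, mul_one, mul_zero, zero_mul, neg_zero, add_zero, sub_zero, neg_neg, and_true]
  constructor
  · intro h; omega
  · intro h; omega

/-- a vector generating with the others the whole lattice -/
theorem span_ok : ∀ j : Fin 24, ∀ n : Fin 24,
    fl (genV j) n = ((List.finRange 24).map fun k : Fin 24 =>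
      (spanCombos.getD j.val []).getD k.val 0 * fl (powV (k.val % 4) (baseV (k.val / 4))) n).sum := by
  decide +kernel

theorem eq_one_of_fix {g : Co0} (hc : g * aEl = aEl * g)
    (h : ∀ m < 6, g • vp (baseV m) = vp (baseV m)) : g = 1 := by
  have hfix : ∀ m < 6, ∀ i, g • vp (powV i (baseV m)) = vp (powV i (baseV m)) := by
    intro m hm i
    rw [← aEl_pow_vp (baseV_inL hm), ← mul_smul, (Commute.pow_right hc i).eq, mul_smul, h m hm]
  let φ : icoSub →+ leechLattice := AddMonoidHom.mk' (fun x => g • phiHom x - phiHom x)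
    fun a b => by simp only [map_add, co0_add]; abel
  have h0 : φ = 0 := hom_ext fun j => by
    let w : Fin 24 → icoSub := fun k => ofV (powV (k.val % 4) (baseV (k.val / 4)))
      (powV_inL (baseV_inL (by omega)) _)
    have e : genS j = ∑ k : Fin 24, (spanCombos.getD j.val []).getD k.val 0 • w k := by
      refine flHom_injective ?_
      rw [map_sum]
      funext n
      simp only [map_zsmul, Finset.sum_apply, Pi.smul_apply, smul_eq_mul]
      show fl (rep (genS j)) n = _
      rw [rep_genS, span_ok j n, Fin.sum_univ_def]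
      refine congrArg List.sum (List.map_congr_left fun k _ => ?_)
      show _ = _ * fl (rep (w k)) n
      rw [rep_ofV]
    rw [e, map_sum]
    refine (sum_eq_zero fun k _ => ?_).trans rfl
    rw [map_zsmul]
    show _ • (g • phiHom (w k) - phiHom (w k)) = 0
    rw [← vp_eq, hfix _ (by omega), sub_self, smul_zero]
  refine co0_ext fun y => ?_
  obtain ⟨x, rfl⟩ := phiHom_surjective y
  rw [one_smul]
  exact sub_eq_zero.mp (DFunLike.congr_fun h0 x)

/-- the scalars times the reflection group -/
noncomputable def genGrp : Subgroup Co0 := Subgroup.zpowers aEl ⊔ emb.range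

theorem centralizer_le {g : Co0} (hg : g * aEl = aEl * g) : g ∈ genGrp := by
  have hmem : ∀ (k : ℕ) (t : twoJ2), aEl ^ k * emb t ∈ genGrp := fun k t =>
    Subgroup.mul_mem_sup (Subgroup.pow_mem _ (Subgroup.mem_zpowers _) k) ⟨t, rfl⟩
  have hroot : ∀ {h : Co0}, h * aEl = aEl * h → ∀ v : V3, v.isRoot = true →
      ∃ r : V3, r.isRoot = true ∧ h • vp v = vp r := by
    intro h hh v hv
    obtain ⟨hvL, -⟩ := V3.isRoot_iff.mp hv
    obtain ⟨r, hr, e⟩ := exists_vp (h • vp v)
    refine ⟨r, (root_iff hr).mpr ?_, e.symm⟩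
    obtain ⟨h1, h2⟩ := (root_iff hvL).mp hv
    rw [e, ← mul_smul, ← hh, mul_smul, co0_dot, co0_dot]
    exact ⟨h1, h2⟩
  have key : ∀ j ≤ 6, ∃ t ∈ genGrp, (t⁻¹ * g) * aEl = aEl * (t⁻¹ * g) ∧
      ∀ m < j, (t⁻¹ * g) • vp (baseV m) = vp (baseV m) := by
    intro j
    induction j with
    | zero => exact fun _ => ⟨1, one_mem _, by simpa using hg, fun m hm => absurd hm (by omega)⟩
    | succ j ih =>
      intro hj
      obtain ⟨t, ht, hc, hfix⟩ := ih (by omega)
      set h := t⁻¹ * g with hh
      have hj6 : j < 6 := by omega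
      obtain ⟨r, hr, he⟩ := hroot hc _ (baseV_root hj6)
      obtain ⟨hrL, hrq⟩ := V3.isRoot_iff.mp hr
      obtain ⟨s, hs, hsc, hsf, hsr⟩ : ∃ s ∈ genGrp, s * aEl = aEl * s ∧
          (∀ m < j, s • vp (baseV m) = vp (baseV m)) ∧ s • vp (baseV j) = vp r := by
        rcases Nat.eq_zero_or_pos j with rfl | hpos
        · obtain ⟨t0, ht0, e0'⟩ := exists_of_root (toLat r hrL) hrq
          refine ⟨emb ⟨t0, ht0⟩, Subgroup.mem_sup_right ⟨_, rfl⟩, (aEl_comm _).symm,
            fun m hm => absurd hm (by omega), ?_⟩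
          rw [base_roots.2, ← phiEquiv_toLat e0_inL, emb_apply, ← phiEquiv_toLat hrL]
          exact congrArg phiEquiv e0'
        · obtain ⟨u, hu, l, hl, rfl⟩ := root_classify hr
          obtain ⟨ui, hui, rfl⟩ := List.getElem_of_mem hu
          obtain ⟨li, hli, rfl⟩ := List.getElem_of_mem hl
          have hli' : li < 315 := lines_length ▸ hli
          have hline : line li = lines[li] := List.getD_eq_getElem _ _ hli
          have hkeys : ∀ k ∈ keys j,
              bval (Q8.mul (V3.dot k.1 (line li)) units[ui].conj) = k.2 := by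
            simp only [keys, List.mem_flatMap, List.mem_map, List.mem_range]
            rintro _ ⟨m, hm, i, hi, rfl⟩
            have hmL := powV_inL (baseV_inL (show m < 6 by omega)) i
            rw [← dot_lsmul (V3.inI3_of_inL hmL) (unit_spec hu).1 (line_inI3 hli'), hline]
            show bval (V3.dot (powV i (baseV m)) _) = bval (V3.dot (powV i (baseV m)) (baseV j))
            refine (ldot_vp hmL hrL).symm.trans (Eq.trans ?_ (ldot_vp hmL (baseV_inL hj6)))
            rw [← he]
            have hfm : h • vp (powV i (baseV m)) = vp (powV i (baseV m)) := by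
              rw [← aEl_pow_vp (baseV_inL (by omega)), ← mul_smul, (Commute.pow_right hc i).eq,
                mul_smul, hfix m hm]
            conv_lhs => rw [← hfm]
            exact co0_dot _ _ _
          have hscan := scan_mem hpos (by omega) hui hli' hkeys
          obtain ⟨e, hemem, he1⟩ := List.mem_map.mp hscan
          have hre := List.all_eq_true.mp (List.all_eq_true.mp reach_all (j - 1) (List.mem_range.mpr (by omega)))
            e (by rw [Nat.sub_add_cancel hpos]; exact hemem)
          simp only [reachB, Nat.sub_add_cancel hpos, Bool.and_eq_true, List.all_eq_true, List.mem_range,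
            decide_eq_true_eq] at hre
          obtain ⟨⟨hok, hfix'⟩, himg⟩ := hre
          refine ⟨aEl ^ e.2.1 * emb (H89.J2Two.wordElt e.2.2), hmem _ _, ?_, fun m hm => ?_, ?_⟩
          · rw [mul_assoc, ← aEl_comm, ← mul_assoc, ← mul_assoc]
            congr 1
            exact (Commute.refl aEl).pow_left _ |>.eq
          · obtain ⟨h1, h2⟩ := emb_word hok (baseV_inL (show m < 6 by omega))
            rw [mul_smul, h2, aEl_pow_vp h1, hfix' m hm]
          · obtain ⟨h1, h2⟩ := emb_word hok (baseV_inL hj6)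
            have hu' : Q8.unit ui = units[ui] := List.getD_eq_getElem _ _ hui
            rw [mul_smul, h2, aEl_pow_vp h1, himg, he1, hu', hline]; rfl
      refine ⟨t * s, mul_mem ht hs, ?_, fun m hm => ?_⟩
      · rw [mul_inv_rev, mul_assoc s⁻¹, ← hh]
        exact ((show Commute s aEl from hsc).inv_left.mul_left (show Commute h aEl from hc)).eq
      · rw [mul_inv_rev, mul_assoc s⁻¹, ← hh, mul_smul, inv_smul_eq_iff]
        rcases Nat.lt_succ_iff_lt_or_eq.mp hm with hm | rfl
        · rw [hfix m hm, hsf m hm]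
        · rw [he, hsr]
  obtain ⟨t, ht, hc, hfix⟩ := key 6 le_rfl
  rw [← inv_mul_eq_one.mp (eq_one_of_fix hc hfix)]
  exact ht

end H95.J2Sec
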