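import Mathlib

/-! Constants for the isometry of the icosian lattice with the Leech lattice. -/

set_option autoImplicit false

namespace H95.J2Sec

/-- four times the isometry on doubled coordinates -/
def phiRows : List (List ℤ) :=
  [[0, 0, 0, 2, -2, -4, -2, -2, -1, -1, 1, 1, -1, -1, -1, -3, 1, 1, -1, -1, 1, 1, 1, 3],
   [-4, -4, 0, 0, 0, 0, 0, 0, -1, -3, 1, 1, 1, 1, 1, 1, 1, 3, -1, -1, -1, -1, -1, -1],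
   [0, 0, 2, 2, 0, -2, 2, 4, -1, -1, -1, -3, 1, 1, -1, -1, 1, 1, 1, 3, -1, -1, 1, 1],
   [0, 2, -2, 0, 0, 0, 2, 2, 1, 1, 1, -1, -1, -1, 1, 1, -1, -1, -1, 1, 1, 1, -1, -1],
   [0, 0, 0, 0, 0, 0, 0, 0, -1, -3, -3, -3, 1, 1, 1, 1, -1, -3, -3, -3, 1, 1, 1, 1],
   [0, 2, -2, 0, 0, 0, 2, 2, -1, -1, -1, 1, 1, 1, -1, -1, 1, 1, 1, -1, -1, -1, 1, 1],
   [0, 0, 0, 0, 0, 0, 0, 0, 1, 1, -1, 1, -1, 1, -1, -3, 1, 1, -1, 1, -1, 1, -1, -3],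
   [0, 2, 0, -2, 0, -2, 0, -2, 1, -1, -1, -1, -1, -1, -1, -1, -1, 1, 1, 1, 1, 1, 1, 1],
   [0, 2, 2, 2, -2, 0, 0, 0, 1, 1, 1, 1, 1, -1, -1, -1, -1, -1, -1, -1, -1, 1, 1, 1],
   [4, 4, 0, 0, 0, 0, 0, 0, -1, -3, 1, 1, 1, 1, 1, 1, 1, 3, -1, -1, -1, -1, -1, -1],
   [0, 0, 0, 0, 0, 0, 0, 0, -1, -3, 1, 1, 1, 1, -3, -3, -1, -3, 1, 1, 1, 1, -3, -3],
   [0, 2, 0, 0, 2, 2, -2, 0, 1, 1, -1, -1, 1, 1, 1, -1, -1, -1, 1, 1, -1, -1, -1, 1],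
   [0, 0, 0, -2, 2, 4, 2, 2, -1, -1, 1, 1, -1, -1, -1, -3, 1, 1, -1, -1, 1, 1, 1, 3],
   [0, 0, 0, 0, 0, 0, 0, 0, 1, 1, -1, 1, -1, -3, -1, 1, 1, 1, -1, 1, -1, -3, -1, 1],
   [0, 0, -2, -4, -2, -2, 0, 2, -1, -1, -1, -1, -1, -3, 1, 1, 1, 1, 1, 1, 1, 3, -1, -1],
   [0, 2, 0, -2, 0, -2, 0, -2, -1, 1, 1, 1, 1, 1, 1, 1, 1, -1, -1, -1, -1, -1, -1, -1],
   [0, 0, 2, 4, 2, 2, 0, -2, -1, -1, -1, -1, -1, -3, 1, 1, 1, 1, 1, 1, 1, 3, -1, -1],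
   [0, 0, 0, 0, 0, 0, 0, 0, -3, -1, -1, -1, -1, -1, -1, -1, -3, -1, -1, -1, -1, -1, -1, -1],
   [0, 0, 0, 0, 0, 0, 0, 0, -1, -3, 1, 1, -3, -3, 1, 1, -1, -3, 1, 1, -3, -3, 1, 1],
   [0, 2, 0, 0, 2, 2, -2, 0, -1, -1, 1, 1, -1, -1, -1, 1, 1, 1, -1, -1, 1, 1, 1, -1],
   [0, 2, 2, 2, -2, 0, 0, 0, -1, -1, -1, -1, -1, 1, 1, 1, 1, 1, 1, 1, 1, -1, -1, -1],
   [0, 0, -2, -2, 0, 2, -2, -4, -1, -1, -1, -3, 1, 1, -1, -1, 1, 1, 1, 3, -1, -1, 1, 1],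
   [0, 0, 0, 0, 0, 0, 0, 0, 1, 1, -1, -3, -1, 1, -1, 1, 1, 1, -1, -3, -1, 1, -1, 1],
   [0, 0, 0, 0, 0, 0, 0, 0, -1, -1, 1, 3, 1, 3, 1, 3, -1, -1, 1, 3, 1, 3, 1, 3]]

/-- a multiple of the inverse -/
def invRows : List (List ℤ) :=
  [[0, -4, 0, -2, 0, -2, 0, -2, -2, 4, 0, -2, 0, 0, 0, -2, 0, 0, 0, -2, -2, 0, 0, 0],
   [0, 0, 0, 2, 0, 2, 0, 2, 2, 0, 0, 2, 0, 0, 0, 2, 0, 0, 0, 2, 2, 0, 0, 0],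
   [-2, 0, 2, -4, 0, -4, 0, 2, 2, 0, 0, 0, 2, 0, 0, 2, 0, 0, 0, 0, 2, -2, 0, 0],
   [2, 0, 0, 2, 0, 2, 0, -2, 0, 0, 0, 0, -2, 0, -2, -2, 2, 0, 0, 0, 0, 0, 0, 0],
   [0, 0, 2, 0, 0, 0, 0, 2, -4, 0, 0, 2, 0, 0, -2, 2, 2, 0, 0, 2, -4, -2, 0, 0],
   [-2, 0, -2, 0, 0, 0, 0, -2, 2, 0, 0, 0, 2, 0, 0, -2, 0, 0, 0, 0, 2, 2, 0, 0],
   [-2, 0, 0, 2, 0, 2, 0, 2, 0, 0, 0, -4, 2, 0, -2, 2, 2, 0, 0, -4, 0, 0, 0, 0],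
   [0, 0, 2, 0, 0, 0, 0, -2, 0, 0, 0, 2, 0, 0, 2, -2, -2, 0, 0, 2, 0, -2, 0, 0],
   [-1, 1, -1, 1, 1, -1, 1, 3, 1, 1, 1, 1, -1, 1, -1, -3, -1, -5, 1, -1, -1, -1, 1, -1],
   [0, -2, 0, 0, -2, 0, 0, -2, 0, -2, -2, 0, 0, 0, 0, 2, 0, 2, -2, 0, 0, 0, 0, 0],
   [1, 1, 1, 3, -3, -3, -3, -1, 1, 1, 1, -1, 1, -3, -1, 1, -1, -1, 1, 1, -1, 1, 1, -1],
   [0, 0, -2, -2, 0, 2, 2, 0, 0, 0, 0, 0, 0, 2, 0, 0, 0, 0, 0, 0, 0, -2, -2, 2],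
   [-1, 1, 1, -1, 1, 1, -3, -1, 3, 1, 1, 1, -1, 1, 1, 1, 1, -1, -3, -1, -3, 1, -3, -1],
   [0, 0, 0, 0, 0, 0, 2, 0, -2, 0, 0, 0, 0, -2, -2, 0, -2, 0, 0, 0, 2, 0, 2, 2],
   [1, 1, -1, 1, 1, -1, 1, -1, -1, 1, -3, 3, 1, -3, 1, 1, 1, -1, 1, -3, 1, -1, -3, -1],
   [-2, 0, 0, 0, 0, 0, -2, 0, 0, 0, 0, -2, -2, 2, 0, 0, 0, 0, 0, 2, 0, 0, 2, 2],
   [1, -1, 1, -1, 1, 1, 1, -3, -1, -1, 1, -1, 1, 1, 1, 3, 1, -5, 1, 1, 1, 1, 1, -1],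
   [0, 2, 0, 0, -2, 0, 0, 2, 0, 2, -2, 0, 0, 0, 0, -2, 0, 2, -2, 0, 0, 0, 0, 0],
   [-1, -1, -1, -3, -3, 3, -3, 1, -1, -1, 1, 1, -1, -3, 1, -1, 1, -1, 1, -1, 1, -1, 1, -1],
   [0, 0, 2, 2, 0, -2, 2, 0, 0, 0, 0, 0, 0, 2, 0, 0, 0, 0, 0, 0, 0, 2, -2, 2],
   [1, -1, -1, 1, 1, -1, -3, 1, -3, -1, 1, -1, 1, 1, -1, -1, -1, -1, -3, 1, 3, -1, -3, -1],
   [0, 0, 0, 0, 0, 0, 2, 0, 2, 0, 0, 0, 0, -2, 2, 0, 2, 0, 0, 0, -2, 0, 2, 2],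
   [-1, -1, 1, -1, 1, 1, 1, 1, 1, -1, -3, -3, -1, -3, -1, -1, -1, -1, 1, 3, -1, 1, -3, -1],
   [2, 0, 0, 0, 0, 0, -2, 0, 0, 0, 0, 2, 2, 2, 0, 0, 0, 0, 0, -2, 0, 0, 2, 2]]

/-- the multiple -/
def invDen : ℤ := 32

/-- generators of the Leech lattice as combinations of the images -/
def genCombos : List (List ℤ) :=
  [[0, 0, -1, 1, 0, 0, -1, 0, 1, -1, 2, -1, 0, -1, 1, -1, 1, -1, 1, -1, 1, -1, 1, -1],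
   [-2, 0, 0, 0, 0, 1, 1, 1, 2, -2, 0, 0, 1, 0, 0, -1, 1, 0, 0, -1, 1, -1, 0, 0],
   [0, 0, 1, 0, 0, -1, 0, 0, 0, -1, 1, 0, 0, 0, 1, 0, 1, 0, 1, -1, 0, -1, 0, -1],
   [-1, 1, -2, 1, 0, 1, 0, 1, 2, -2, 2, -1, 1, -1, 0, -1, 1, 0, 1, -1, 1, -2, 0, -1],
   [0, 0, 0, 0, 0, 0, 0, 0, 1, -1, 0, 1, 0, 0, 0, -1, 1, -1, -1, -1, 2, 0, 1, 0],
   [-1, 1, -2, 1, 0, 1, 0, 1, 1, -1, 0, 0, 1, 0, 0, 0, 1, 0, 1, -1, 1, -2, 0, -1],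
   [0, 0, 0, 0, 0, 0, 0, 0, 0, -1, 0, 0, 0, 1, 1, 0, 1, 0, -1, 0, 0, 0, 0, -1],
   [-1, 1, 1, -1, 0, -1, 1, 0, 1, -1, -1, 1, 0, 1, -1, 0, 0, 0, 1, -1, 0, -1, 0, 0],
   [-1, 1, 1, 0, -2, 0, 0, 0, 2, -2, -1, 1, 2, 0, 0, -1, 0, 0, -1, 0, 1, 0, 0, 0],
   [2, 0, 0, 0, 0, -1, -1, -1, 1, 0, 1, 0, 0, -1, 0, -1, 0, 0, 1, -1, 0, -1, 1, -1],
   [0, 0, 0, 0, 0, 0, 0, 0, 1, -1, 0, 0, 1, 0, 0, 0, 1, -1, 1, -1, 1, -1, 0, -1],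
   [-1, 1, 0, 0, 0, 0, -1, 1, 2, -2, 1, 0, 0, 0, 1, -2, 2, -1, 0, -1, 1, -1, 0, -1],
   [0, 0, 1, -1, 0, 0, 1, 0, 0, -1, 0, 0, 1, 1, 1, 0, 0, 1, 0, -1, 0, -1, 0, 0],
   [0, 0, 0, 0, 0, 0, 0, 0, 0, -1, -1, 1, 1, 1, 0, 0, 1, 0, -1, 0, 1, -1, -1, 0],
   [0, 0, 0, -1, 0, 0, 0, 1, 1, -1, 0, 0, 1, 0, 1, -1, 1, 0, 0, 0, 0, -1, 0, -1],
   [-1, 1, 1, -1, 0, -1, 1, 0, 0, 0, 0, 0, 0, 0, 0, 0, 0, 0, 1, -1, 0, -1, 0, 0],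
   [0, 0, 0, 1, 0, 0, 0, -1, 0, -1, 1, 1, 0, 0, 0, -1, 0, 0, 1, -2, 1, -1, 1, 0],
   [0, 0, 0, 0, 0, 0, 0, 0, -1, 0, 1, 0, 0, 0, 1, 0, -2, 1, 0, -1, 0, 0, 1, 1],
   [0, 0, 0, 0, 0, 0, 0, 0, 1, -1, 1, 0, 0, 0, 0, -1, 1, -1, 1, -1, 0, -1, 1, -1],
   [-1, 1, 0, 0, 0, 0, -1, 1, 1, -1, 1, 0, 0, 0, 0, -1, 2, -1, 0, -1, 1, -1, 0, -1],
   [-1, 1, 1, 0, -2, 0, 0, 0, 1, -1, 0, 1, 0, 0, 0, -1, 0, 0, -1, 0, 1, 0, 0, 0],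
   [0, 0, -1, 0, 0, 1, 0, 0, 1, -1, 1, 0, 1, -1, 0, -1, 0, 0, 0, -1, 1, -1, 1, 0],
   [0, 0, 0, 0, 0, 0, 0, 0, 0, -1, 1, 0, 0, 0, 0, 0, 1, 0, 1, -2, 0, -1, 0, 0],
   [0, 0, 0, 0, 0, 0, 0, 0, 0, 0, 0, 0, 0, 0, 0, 0, 0, 0, 0, 0, 0, 0, 0, 0],
   [0, 0, 0, 0, 0, 0, 0, 0, -1, 2, -1, 0, -1, 0, -1, 1, -1, 0, -1, 2, -1, 2, -1, 1],
   [0, 0, 0, 0, 0, 0, 0, 0, -1, 1, 1, 0, -1, 0, 0, 0, -1, 0, 0, 0, -1, 1, 0, 1],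
   [-2, 1, 1, -1, 0, 0, 1, 1, 0, 0, -1, 1, 0, 1, -1, 0, 1, 0, -1, 0, 0, 0, -2, 1],
   [-1, 1, 2, -1, -1, -1, 1, 0, -1, 1, -1, 1, -1, 1, -1, 1, 0, 0, -1, 1, -1, 1, -2, 1],
   [-1, 1, -1, 0, 0, 1, 0, 1, 0, 0, 1, 0, 0, 0, -1, 0, 0, 0, -1, 0, 0, 0, -1, 1],
   [-1, 1, 1, 0, -1, 0, 0, 0, -1, 1, -1, 2, -1, 1, -1, 0, -1, 0, -3, 1, 1, 2, -1, 2],
   [-1, 1, -1, 0, -1, 1, 0, 1, 0, 1, -1, 1, 0, 0, -1, 0, -1, 0, -2, 2, 0, 1, -1, 1],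
   [-1, 1, 0, -1, 0, 0, 0, 1, 0, 1, 0, 0, -1, 0, -1, 0, 1, -1, -1, 1, -1, 1, -1, 0],
   [-2, 2, 2, -2, -1, -1, 1, 1, 0, 1, -1, 1, -1, 1, -1, 0, -1, 0, -1, 1, -1, 1, -1, 1],
   [-2, 2, 1, 0, -2, 0, 0, 0, 1, 0, -1, 2, 0, 0, -2, -1, 0, -1, -2, 1, 1, 1, -1, 1],
   [0, 1, 0, 0, -1, 0, -1, 0, 0, 1, 1, 1, -1, -1, -1, -1, -1, 0, -1, 0, 0, 1, 0, 1],
   [-1, 1, 1, -1, -1, 0, 1, 0, 0, 1, -1, 1, 0, 0, -1, 0, -1, 0, -1, 1, 0, 1, -1, 1],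
   [-1, 1, 0, 0, 0, 0, 0, 0, -1, 1, 0, 1, -1, 0, -1, 0, -1, 0, -1, 0, 0, 1, -1, 2],
   [-2, 2, 0, 0, -1, 0, 0, 1, 2, -1, 0, 1, 0, 0, -1, -1, 1, -1, -1, 0, 1, 0, -1, 0]]

/-- six roots, as units and lines -/
def baseIdx : List (ℕ × ℕ) :=
  [(0, 0), (1, 0), (6, 81), (117, 51), (85, 98), (38, 305)]

/-- candidates for the images of the last five, with a power and a word reaching each -/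
def levelData : List (List ((ℕ × ℕ) × ℕ × List ℕ)) :=
  [[((1, 0), 0, [230, 100, 0, 57, 0, 100, 9, 100, 137, 230, 57, 100, 9, 100, 0]),
    ((36, 0), 4, [57, 100, 137, 9, 100, 0, 230, 100, 230, 100, 57, 9, 57, 100, 137, 230, 100, 26, 57, 26, 100]),
    ((38, 0), 1, [100, 26, 230, 100, 0, 9, 100, 57, 100, 26, 57, 9, 230, 26, 9, 137, 57, 0, 100, 137, 9, 100]),
    ((99, 0), 3, [100, 57, 9, 57, 0, 100, 57, 230, 230, 100, 57, 9, 26, 26, 9, 57, 100, 230]),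
    ((100, 0), 2, [230, 57, 100, 137, 57, 100, 230, 100, 230, 100, 137, 57, 137, 100, 0, 9, 57, 100, 230, 100, 57, 230])],
   [((6, 81), 0, [0, 57, 9, 9, 57, 0]),
    ((6, 240), 0, [230, 26, 100, 230, 26, 100, 137, 230, 100, 0, 9, 57, 9]),
    ((12, 238), 0, [230, 57, 26, 100, 9, 137, 57, 26, 137, 100, 57, 0, 57, 0, 100, 230]),
    ((12, 298), 0, [230, 57, 0, 100, 26, 100, 57, 137, 100, 230, 100, 57, 230, 9, 57]),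
    ((15, 7), 0, [0, 100, 230, 57, 230, 57, 26, 230, 26, 57, 230, 57, 230, 100, 0]),
    ((15, 301), 0, [230, 57, 230, 100, 57, 100, 0, 9, 57, 9, 100, 57, 0, 100]),
    ((24, 65), 0, [100, 230, 57, 26, 100, 0, 100, 230, 26, 230, 100, 26, 57, 100, 26, 100]),
    ((24, 82), 0, [0, 100, 57, 137, 100, 0, 9, 100, 137, 57, 137, 100, 57]),
    ((96, 256), 0, [230, 100, 9, 100, 9, 57, 137, 57, 100, 26, 100, 57, 137, 100, 9]),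
    ((96, 270), 0, [9, 100, 137, 57, 9, 100, 26, 0, 230, 9, 57, 100, 9]),
    ((107, 232), 0, [57, 9, 230, 57, 100, 137, 0, 137, 100, 57, 230, 9, 57]),
    ((107, 277), 0, [0, 100, 137, 57, 0, 100, 26, 57, 100, 137, 100, 57, 137, 100, 9, 100]),
    ((112, 6), 0, [9, 100, 26, 57, 100, 9, 26, 57, 0, 57, 0, 230, 9, 57, 100]),
    ((112, 175), 0, [57, 9, 137, 100, 26, 57, 9, 137, 100, 0, 9, 230, 100, 26, 57]),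
    ((118, 55), 0, [230, 100, 0, 57, 0, 100, 9, 100, 137, 230, 57, 100, 9, 100, 0]),
    ((118, 286), 0, [57, 100, 230, 0, 100, 26, 100, 57, 100, 137, 230, 57])],
   [((117, 51), 0, [0, 57, 9, 9, 57, 0]),
    ((117, 224), 0, [9, 57, 100, 9, 100, 0, 100, 230, 100, 0, 100, 9, 100, 57, 230])],
   [((85, 98), 0, [0, 57, 9, 9, 57, 0])],
   [((38, 305), 0, [0, 57, 9, 9, 57, 0])]]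

/-- the basis as combinations of four powers of the scalar applied to the six roots -/
def spanCombos : List (List ℤ) :=
  [[-3, -5, -5, -2, -1, 1, 4, 2, -4, -3, 1, 3, 0, 1, 1, 1, 3, 2, -2, -3, 1, 1, -1, -1],
   [-2, -5, -3, 1, 0, 3, 4, 3, -3, -1, 4, 4, 1, 1, 2, 1, 2, -1, -4, -4, 1, -1, -2, -2],
   [-3, -5, -2, 0, 2, 4, 5, 3, -2, 1, 5, 4, 0, 1, 1, 0, 1, -2, -5, -4, 0, -1, -2, -2],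
   [-1, -4, -3, -1, 0, 2, 3, 2, -3, -2, 1, 2, 0, 0, 1, 0, 2, 1, -2, -3, 1, 1, 0, -1],
   [-1, -3, 1, 1, 2, 3, 3, 2, -1, 2, 4, 2, 0, 0, 1, -1, -1, -3, -4, -3, -1, -2, -2, -2],
   [-4, -3, -1, 2, 1, 4, 4, 1, 0, 4, 7, 5, 1, 2, 1, 1, 0, -4, -6, -3, 0, -2, -3, -1],
   [1, -1, -2, 0, -1, 0, 1, 1, -2, -3, -1, 0, 1, 0, 1, 1, 2, 2, 1, -1, 1, 1, 1, 0],
   [-1, -3, -4, -3, -1, 0, 2, 2, -3, -4, -2, 1, -1, 0, 0, 0, 3, 4, 1, -1, 1, 2, 1, 0],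
   [-2, 2, 4, 0, 3, 1, 0, -3, 4, 7, 3, -1, -1, 0, -1, -1, -5, -6, -4, 0, -2, -2, -2, 0],
   [4, 7, 3, 3, -1, -2, -6, -4, 5, 2, -3, -4, 1, -1, -1, 1, -2, -1, 3, 4, 0, 0, 2, 2],
   [4, 4, 6, 2, 3, 0, -3, -1, 4, 3, -1, -4, 0, -1, 0, -1, -4, -4, 1, 2, -2, -2, 0, 0],
   [2, 5, 7, 6, 3, 4, -1, -2, 6, 9, 6, 0, 2, 1, 1, 0, -5, -8, -4, 1, -2, -4, -2, 0],
   [7, 3, 3, 3, 0, -1, -4, 1, 1, -3, -4, -4, 1, -2, 1, 0, 0, 1, 4, 2, 0, 0, 2, 0],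
   [0, 3, -1, -4, -2, -6, -5, -4, 1, -3, -8, -5, -2, -1, -2, 0, -1, 3, 5, 4, 0, 2, 2, 2],
   [-2, 2, 1, 4, 0, 3, 1, -2, 3, 6, 6, 3, 2, 2, 1, 2, -2, -5, -5, -1, 0, -2, -2, 0],
   [-2, -1, 5, 3, 5, 6, 4, 1, 3, 9, 9, 3, 0, 1, 1, -1, -4, -9, -8, -3, -2, -4, -4, -2],
   [4, 3, 3, 3, 0, -1, -4, -1, 2, 0, -2, -3, 1, -1, 0, 0, -1, -1, 2, 2, 0, -1, 0, 0],
   [1, 3, 2, -3, 0, -5, -5, -3, 2, -1, -6, -5, -2, -2, -3, -2, -2, 2, 5, 4, -1, 0, 1, 1],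
   [0, 3, -1, 0, -3, -4, -4, -3, 1, -2, -4, -2, 0, 0, -1, 1, 0, 2, 3, 3, 0, 0, 0, 1],
   [-2, 0, 1, 0, 1, 0, 0, -1, 1, 2, 1, 0, 0, 1, 0, 0, -2, -3, -2, 0, -1, -2, -2, -1],
   [-2, 2, -3, -3, -3, -5, -3, -3, 0, -3, -5, -2, -1, 0, -2, 1, 1, 4, 4, 3, 0, 1, 1, 1],
   [5, 2, 1, -1, -2, -5, -5, 0, -1, -6, -8, -5, -1, -3, -1, -1, 1, 5, 7, 3, 0, 1, 2, 1],
   [-1, -2, 1, -1, 2, 1, 1, 1, 0, 1, 1, 0, -1, 0, 0, -1, -1, -2, -2, -1, 0, -1, -1, -1],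
   [-1, 0, 0, 2, 0, 1, 0, -1, 1, 2, 2, 1, 1, 1, 1, 1, -1, -3, -3, -1, 0, -1, -2, -1]]

/-- the multiple -/
def spanDen : ℤ := 1

end H95.J2Sec
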