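import Cfsg.Agent.H95.J2Sec.Iso
import Cfsg.Agent.H89.J2Two
import Cfsg.Agent.H95.Co0Centre

/-!
The reflection group and a scalar of order five inside the isometry group of the Leech lattice.
-/

set_option autoImplicit false
set_option maxRecDepth 20000

namespace H95.J2Sec

open Cfsg Finset
open H96 H96.J2 Cfsg.Spor

/-- the scalar -/
def zQ : Q8 := Q8.unit 4

theorem zQ_inI : zQ.inI = true := by decide +kernel

theorem zQ_five : Q8.mul zQ (Q8.mul zQ (Q8.mul zQ (Q8.mul zQ zQ))) = Q8.one ∧ zQ ≠ Q8.one := by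
  decide +kernel

/-- the image of a listed vector -/
noncomputable def vp (v : V3) : leechLattice :=
  if h : v.inL = true then phiHom (ofV v h) else 0

theorem vp_eq {v : V3} (h : v.inL = true) : vp v = phiHom (ofV v h) := dif_pos h

theorem vp_rep (x : icoSub) : vp (rep x) = phiHom x := by
  rw [vp_eq (rep_inL x)]
  exact congrArg phiHom (Subtype.ext (rep_val x))

theorem exists_vp (y : leechLattice) : ∃ v : V3, v.inL = true ∧ vp v = y := by
  obtain ⟨x, rfl⟩ := phiHom_surjective y
  exact ⟨rep x, rep_inL x, vp_rep x⟩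

theorem phiEquiv_toLat {v : V3} (h : v.inL = true) : phiEquiv (toLat v h) = vp v := by
  rw [vp_eq h]; rfl

theorem phiEquiv_symm_vp {v : V3} (h : v.inL = true) : phiEquiv.symm (vp v) = toLat v h := by
  rw [← phiEquiv_toLat h, Equiv.symm_apply_apply]

theorem ldot_vp {v w : V3} (hv : v.inL = true) (hw : w.inL = true) :
    ldot (vp v) (vp w) = bval (V3.dot v w) := by
  rw [vp_eq hv, vp_eq hw, ldot_phi, rep_ofV, rep_ofV]

theorem vp_injective {v w : V3} (hv : v.inL = true) (hw : w.inL = true) (h : vp v = vp w) : v = w := by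
  rw [vp_eq hv, vp_eq hw] at h
  exact V3.val_inj (congrArg Subtype.val (phiHom_injective h))

/-- an isometry of the icosian lattice carried over -/
noncomputable def carry (g : Equiv.Perm icoLeech)
    (hadd : ∀ x y : icoLeech, ((g ⟨_, icoLeech_add x.2 y.2⟩ : icoLeech) : H3) = (g x : H3) + (g y : H3))
    (hnorm : ∀ x : icoLeech, ldot (phiEquiv (g x)) (phiEquiv (g x)) = ldot (phiEquiv x) (phiEquiv x)) :
    Co0 :=
  ⟨phiEquiv.permCongr g, fun v w => by
    rw [Equiv.permCongr_apply, Equiv.permCongr_apply, Equiv.permCongr_apply]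
    have e : phiEquiv.symm (v + w) = ⟨_, icoLeech_add (phiEquiv.symm v).2 (phiEquiv.symm w).2⟩ := by
      apply phiEquiv.injective
      rw [Equiv.apply_symm_apply]
      conv_lhs => rw [← phiEquiv.apply_symm_apply v, ← phiEquiv.apply_symm_apply w,
        phiEquiv_apply, phiEquiv_apply, ← map_add]
      rfl
    rw [e, phiEquiv_apply, phiEquiv_apply, phiEquiv_apply, ← map_add]
    exact congrArg phiHom (Subtype.ext (hadd _ _)),
  fun v => by
    rw [sqNorm_eq_ldot, sqNorm_eq_ldot, Equiv.permCongr_apply, hnorm, Equiv.apply_symm_apply]⟩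

theorem carry_apply (g : Equiv.Perm icoLeech) {hadd} {hnorm} (x : icoLeech) :
    carry g hadd hnorm • phiEquiv x = phiEquiv (g x) := by
  show phiEquiv.permCongr g (phiEquiv x) = _
  rw [Equiv.permCongr_apply, Equiv.symm_apply_apply]

theorem aut_norm {g : Equiv.Perm icoLeech} (hg : IsAut g) (x : icoLeech) :
    ldot (phiEquiv (g x)) (phiEquiv (g x)) = ldot (phiEquiv x) (phiEquiv x) := by
  rw [phiEquiv_apply, phiEquiv_apply, ldot_phi, ldot_phi]
  refine congrArg bval (Q8.val_inj ?_)
  rw [V3.val_dot (rep_inI3 _) (rep_inI3 _), V3.val_dot (rep_inI3 _) (rep_inI3 _), rep_val, rep_val]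
  exact hg.map_qip x x

/-- the reflection group -/
noncomputable def emb : twoJ2 →* Co0 :=
  MonoidHom.mk' (fun g => carry g.1 (isAut_of_mem g.2).map_add (aut_norm (isAut_of_mem g.2)))
    fun a b => Subtype.ext (Equiv.ext fun y => by
      show phiEquiv.permCongr (a.1 * b.1) y = phiEquiv.permCongr a.1 (phiEquiv.permCongr b.1 y)
      simp only [Equiv.permCongr_apply, Equiv.Perm.mul_apply, Equiv.symm_apply_apply])

theorem emb_apply (g : twoJ2) (x : icoLeech) : emb g • phiEquiv x = phiEquiv (g.1 x) :=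
  carry_apply g.1 (hadd := (isAut_of_mem g.2).map_add) (hnorm := aut_norm (isAut_of_mem g.2)) x

theorem emb_injective : Function.Injective emb := fun a b h =>
  Subtype.ext (Equiv.ext fun x => phiEquiv.injective (by rw [← emb_apply, ← emb_apply, h]))

theorem emb_word {w : List ℕ} (hw : H89.J2Two.okW w = true) {v : V3} (hv : v.inL = true) :
    (applyWord w v).inL = true ∧ emb (H89.J2Two.wordElt w) • vp v = vp (applyWord w v) := by
  obtain ⟨h1, h2⟩ := H89.J2Two.wordElt_spec hw v hv
  refine ⟨h1, ?_⟩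
  rw [← phiEquiv_toLat hv, emb_apply, ← phiEquiv_toLat h1]
  exact congrArg phiEquiv (Subtype.ext h2)

/-- left multiplication by the scalar -/
noncomputable def zMap (x : icoLeech) : icoLeech :=
  ⟨_, icoLeech_lmul (Q8.val_mem_icosians zQ_inI) x.2⟩

theorem zMap_five (x : icoLeech) : zMap (zMap (zMap (zMap (zMap x)))) = x := by
  refine Subtype.ext (funext fun t => ?_)
  show zQ.val * (zQ.val * (zQ.val * (zQ.val * (zQ.val * (x : H3) t)))) = _
  have h := congrArg Q8.val zQ_five.1
  rw [Q8.val_mulI zQ_inI (Q8.inI_mul zQ_inI (Q8.inI_mul zQ_inI (Q8.inI_mul zQ_inI zQ_inI))),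
    Q8.val_mulI zQ_inI (Q8.inI_mul zQ_inI (Q8.inI_mul zQ_inI zQ_inI)),
    Q8.val_mulI zQ_inI (Q8.inI_mul zQ_inI zQ_inI), Q8.val_mulI zQ_inI zQ_inI, Q8.val_one] at h
  calc _ = (zQ.val * (zQ.val * (zQ.val * (zQ.val * zQ.val)))) * (x : H3) t := by
        simp only [mul_assoc]
    _ = _ := by rw [h, one_mul]

/-- as a permutation -/
noncomputable def zPerm : Equiv.Perm icoLeech :=
  ⟨zMap, fun x => zMap (zMap (zMap (zMap x))), fun x => zMap_five x, fun x => zMap_five x⟩

theorem zMap_vp {v : V3} (hv : v.inL = true) :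
    zMap (toLat v hv) = toLat (V3.lsmul zQ v) (V3.inL_lsmul zQ_inI hv) :=
  Subtype.ext (by
    show _ = (V3.lsmul zQ v).val
    rw [V3.val_lsmul zQ_inI (V3.inI3_of_inL hv)]; rfl)

theorem scalar_form : ∀ i j : Fin 24,
    bval (V3.dot (V3.lsmul zQ (genV i)) (V3.lsmul zQ (genV j))) = bval (V3.dot (genV i) (genV j)) := by
  decide +kernel

/-- left multiplication on the subgroup -/
noncomputable def zHom : icoSub →+ icoSub :=
  AddMonoidHom.mk' (fun x => toS (zMap (ofS x))) fun a b => Subtype.ext (funext fun t => by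
    show zQ.val * (((a + b : icoSub) : H3) t) = zQ.val * (a.1 t) + zQ.val * (b.1 t)
    rw [AddSubgroup.coe_add, Pi.add_apply, mul_add])

theorem rep_zHom_gen (j : Fin 24) : rep (zHom (genS j)) = V3.lsmul zQ (genV j) :=
  V3.val_inj (by
    rw [rep_val, V3.val_lsmul zQ_inI (V3.inI3_of_inL (genV_inL j))]; rfl)

theorem zHom_ldot (x y : icoSub) :
    ldot (phiHom (zHom x)) (phiHom (zHom y)) = ldot (phiHom x) (phiHom y) := by
  let f₁ : icoSub → icoSub →+ ℤ := fun x => AddMonoidHom.mk'
    (fun y => ldot (phiHom (zHom x)) (phiHom (zHom y)))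
    fun a b => by rw [map_add, map_add]; exact leechLike.add_right _ _ _
  let f₂ : icoSub → icoSub →+ ℤ := fun x => AddMonoidHom.mk'
    (fun y => ldot (phiHom x) (phiHom y)) fun a b => by rw [map_add]; exact leechLike.add_right _ _ _
  let g₁ : icoSub →+ ℤ := AddMonoidHom.mk'
    (fun x => ldot (phiHom (zHom x)) (phiHom (zHom y)))
    fun a b => by rw [map_add, map_add]; exact leechLike.add_left _ _ _
  let g₂ : icoSub →+ ℤ := AddMonoidHom.mk'
    (fun x => ldot (phiHom x) (phiHom y)) fun a b => by rw [map_add]; exact leechLike.add_left _ _ _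
  refine DFunLike.congr_fun (show g₁ = g₂ from hom_ext fun i => ?_) x
  show f₁ (genS i) y = f₂ (genS i) y
  refine DFunLike.congr_fun (hom_ext fun j => ?_) y
  show ldot (phiHom (zHom (genS i))) (phiHom (zHom (genS j))) = ldot (phiHom (genS i)) (phiHom (genS j))
  rw [ldot_phi, ldot_phi, rep_genS, rep_genS, rep_zHom_gen, rep_zHom_gen]
  exact scalar_form i j

/-- the scalar as an isometry -/
noncomputable def aEl : Co0 :=
  carry zPerm (fun x y => funext fun t => by
      show zQ.val * ((x : H3) t + (y : H3) t) = zQ.val * (x : H3) t + zQ.val * (y : H3) t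
      exact mul_add _ _ _)
    fun x => zHom_ldot (toS x) (toS x)

theorem aEl_apply (x : icoLeech) : aEl • phiEquiv x = phiEquiv (zMap x) := by
  unfold aEl
  exact carry_apply zPerm x

theorem aEl_vp {v : V3} (hv : v.inL = true) : aEl • vp v = vp (V3.lsmul zQ v) := by
  rw [← phiEquiv_toLat hv, aEl_apply, ← phiEquiv_toLat (V3.inL_lsmul zQ_inI hv)]
  exact congrArg phiEquiv (zMap_vp hv)

theorem aEl_comm (g : twoJ2) : aEl * emb g = emb g * aEl := by
  refine co0_ext fun y => ?_
  obtain ⟨v, hv, rfl⟩ := exists_vp y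
  rw [← phiEquiv_toLat hv, mul_smul, mul_smul, emb_apply, aEl_apply, aEl_apply, emb_apply]
  refine congrArg phiEquiv (Subtype.ext ?_)
  exact ((isAut_of_mem g.2).map_lmul _ (Q8.val_mem_icosians zQ_inI) _).symm

theorem aEl_five : aEl ^ 5 = 1 := by
  refine co0_ext fun y => ?_
  obtain ⟨x, rfl⟩ := phiEquiv.surjective y
  simp only [pow_succ, pow_zero, one_mul, mul_smul, one_smul, aEl_apply]
  exact congrArg phiEquiv (zMap_five x)

theorem e0_moved : V3.lsmul zQ e0 ≠ e0 := by decide +kernel

theorem orderOf_aEl : orderOf aEl = 5 := by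
  haveI : Fact (Nat.Prime 5) := ⟨by norm_num⟩
  refine orderOf_eq_prime aEl_five fun h => ?_
  have e := aEl_vp e0_inL
  rw [h, one_smul] at e
  exact e0_moved (vp_injective e0_inL (V3.inL_lsmul zQ_inI e0_inL) e).symm

theorem emb_negElt : emb negElt = negOne := by
  refine co0_ext fun y => ?_
  obtain ⟨x, rfl⟩ := phiEquiv.surjective y
  rw [emb_apply, negOne_smul, phiEquiv_apply, phiEquiv_apply, ← map_neg]
  exact congrArg phiHom (Subtype.ext (negElt_apply x))

end H95.J2Sec
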