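import Cfsg.Agent.H95.J2Sec.Data
import Cfsg.Agent.H95.MatElt
import Cfsg.Agent.H96.J2Stab

/-!
An isometry of the icosian Leech lattice, with the rational part of its norm, onto the Leech lattice.
-/

set_option autoImplicit false
set_option maxRecDepth 20000

namespace H95.J2Sec

open Cfsg Finset
open H96 H96.J2 Cfsg.Spor

/-- the icosian lattice as a subgroup -/
def icoSub : AddSubgroup H3 where
  carrier := icoLeech
  zero_mem' := icoLeech_zero
  add_mem' := fun h k => icoLeech_add h k
  neg_mem' := fun h => icoLeech_neg h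

/-- the element of the subgroup -/
def toS (x : icoLeech) : icoSub := ⟨x.1, x.2⟩

/-- the element of the set -/
def ofS (x : icoSub) : icoLeech := ⟨x.1, x.2⟩

theorem exists_rep (x : icoSub) : ∃ v : V3, v.inL = true ∧ v.val = x.1 := V3.exists_of_mem x.2

/-- coordinates of a lattice vector -/
noncomputable def rep (x : icoSub) : V3 := (exists_rep x).choose

theorem rep_inL (x : icoSub) : (rep x).inL = true := (exists_rep x).choose_spec.1
theorem rep_val (x : icoSub) : (rep x).val = x.1 := (exists_rep x).choose_spec.2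
theorem rep_inI3 (x : icoSub) : (rep x).inI3 = true := V3.inI3_of_inL (rep_inL x)

/-- a listed vector in the lattice -/
noncomputable def ofV (v : V3) (h : v.inL = true) : icoSub := ⟨v.val, V3.val_mem h⟩

theorem rep_ofV (v : V3) (h : v.inL = true) : rep (ofV v h) = v := V3.val_inj (rep_val _)

theorem rep_add (x y : icoSub) : rep (x + y) = (rep x).add (rep y) :=
  V3.val_inj (by rw [rep_val, V3.val_add, rep_val, rep_val]; rfl)

/-- the doubled coordinates -/
def fl (v : V3) : Fin 24 → ℤ :=
  ![v.x.x0.a, v.x.x0.b, v.x.x1.a, v.x.x1.b, v.x.x2.a, v.x.x2.b, v.x.x3.a, v.x.x3.b,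
    v.y.x0.a, v.y.x0.b, v.y.x1.a, v.y.x1.b, v.y.x2.a, v.y.x2.b, v.y.x3.a, v.y.x3.b,
    v.z.x0.a, v.z.x0.b, v.z.x1.a, v.z.x1.b, v.z.x2.a, v.z.x2.b, v.z.x3.a, v.z.x3.b]

theorem fl_add (v w : V3) : fl (v.add w) = fl v + fl w := by
  funext i; fin_cases i <;> rfl

theorem fl_injective : Function.Injective fl := by
  intro v w h
  obtain ⟨⟨⟨a0, a1⟩, ⟨a2, a3⟩, ⟨a4, a5⟩, ⟨a6, a7⟩⟩, ⟨⟨b0, b1⟩, ⟨b2, b3⟩, ⟨b4, b5⟩, ⟨b6, b7⟩⟩,
    ⟨⟨c0, c1⟩, ⟨c2, c3⟩, ⟨c4, c5⟩, ⟨c6, c7⟩⟩⟩ := v
  obtain ⟨⟨⟨d0, d1⟩, ⟨d2, d3⟩, ⟨d4, d5⟩, ⟨d6, d7⟩⟩, ⟨⟨e0, e1⟩, ⟨e2, e3⟩, ⟨e4, e5⟩, ⟨e6, e7⟩⟩,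
    ⟨⟨f0, f1⟩, ⟨f2, f3⟩, ⟨f4, f5⟩, ⟨f6, f7⟩⟩⟩ := w
  simp only [fl, funext_iff, Fin.forall_fin_succ, Matrix.cons_val_zero, Matrix.cons_val_succ] at h
  simp only [V3.mk.injEq, Q8.mk.injEq, Zt.mk.injEq]
  tauto

/-- a linear function of the coordinates -/
def lin (r : List ℤ) (v : V3) : ℤ := dotL r (List.ofFn (fl v))

theorem lin_eq (r : List ℤ) (v : V3) : lin r v = ∑ i : Fin 24, r.getD i.val 0 * fl v i :=
  dotL_ofFn 24 r (fl v)

theorem lin_add (r : List ℤ) (v w : V3) : lin r (v.add w) = lin r v + lin r w := by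
  simp only [lin_eq, fl_add, Pi.add_apply, mul_add, sum_add_distrib]

/-- the coordinates as an additive map -/
noncomputable def flHom : icoSub →+ (Fin 24 → ℤ) :=
  AddMonoidHom.mk' (fun x => fl (rep x)) fun a b => by rw [rep_add, fl_add]

theorem flHom_injective : Function.Injective flHom := fun x y h => by
  have e : rep x = rep y := fl_injective h
  exact Subtype.ext (by rw [← rep_val, e, rep_val])

/-- the 24 basis vectors -/
def genV (j : Fin 24) : V3 :=
  V3.lsmul (Q8.basis ⟨j.val % 8, Nat.mod_lt _ (by norm_num)⟩)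
    (V3.gen ⟨j.val / 8, by omega⟩)

theorem genV_inL : ∀ j, (genV j).inL = true := by decide +kernel

theorem basis_inI : ∀ j, (Q8.basis j).inI = true := by decide +kernel

/-- the basis vectors in the lattice -/
noncomputable def genS (j : Fin 24) : icoSub := ofV (genV j) (genV_inL j)

theorem rep_genS (j : Fin 24) : rep (genS j) = genV j := rep_ofV _ _

theorem exists_combo (x : icoSub) : ∃ n : Fin 24 → ℤ, x = ∑ j, n j • genS j := by
  obtain ⟨c, hc, hx⟩ := icoLeech_span x.2
  have hmem : ∀ y : icoSub, y ∈ AddSubgroup.closure (Set.range genS) →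
      ∃ n : Fin 24 → ℤ, y = ∑ j, n j • genS j := by
    intro y hy
    rw [← Submodule.span_int_eq_addSubgroupClosure, Submodule.mem_toAddSubgroup,
      Submodule.mem_span_range_iff_exists_fun] at hy
    obtain ⟨n, e⟩ := hy
    exact ⟨n, e.symm⟩
  refine hmem x ?_
  have hterm : ∀ i : Fin 3, ∃ y ∈ AddSubgroup.closure (Set.range genS),
      (y : icoSub).1 = lmul (c i) (V3.gen i).val := by
    intro i
    obtain ⟨q, hq, hqv⟩ := Q8.mem_icosians.mp (hc i)
    obtain ⟨n, hn⟩ := Q8.decomp hq
    refine ⟨∑ k : Fin 8, n k • genS (⟨8 * i.val + k.val, by omega⟩ : Fin 24),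
      sum_mem fun k _ => zsmul_mem (AddSubgroup.subset_closure (Set.mem_range_self _)) _, ?_⟩
    rw [← hqv, hn, AddSubgroup.val_finset_sum]
    funext t
    rw [Finset.sum_apply, show lmul (∑ k, n k • (Q8.basis k).val) (V3.gen i).val t
      = (∑ k, n k • (Q8.basis k).val) * (V3.gen i).val t from rfl, Finset.sum_mul]
    refine sum_congr rfl fun k _ => ?_
    rw [AddSubgroup.coe_zsmul, Pi.smul_apply, smul_mul_assoc]
    congr 1
    show (genV ⟨8 * i.val + k.val, _⟩).val t = _
    rw [genV, V3.val_lsmul (basis_inI _) (V3.inI3_of_inL (V3.gen_inL _))]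
    have e1 : (⟨(8 * i.val + k.val) % 8, Nat.mod_lt _ (by norm_num)⟩ : Fin 8) = k :=
      Fin.ext (by simp only; omega)
    have e2 : (⟨(8 * i.val + k.val) / 8, by omega⟩ : Fin 3) = i := Fin.ext (by simp only; omega)
    simp only [e1, e2, lmul]
  choose y hy hyv using hterm
  have : x = ∑ i, y i := Subtype.ext (by
    rw [AddSubgroup.val_finset_sum, hx]
    exact sum_congr rfl fun i _ => (hyv i).symm)
  rw [this]
  exact sum_mem fun i _ => hy i

/-- additive maps are determined on the basis -/
theorem hom_ext {A : Type*} [AddCommGroup A] {f g : icoSub →+ A} (h : ∀ j, f (genS j) = g (genS j)) :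
    f = g := AddMonoidHom.ext fun x => by
  obtain ⟨n, rfl⟩ := exists_combo x
  simp only [map_sum, map_zsmul, h]

/-- four times the coordinates of the image -/
noncomputable def preHom : icoSub →+ (GolayPt → ℤ) :=
  AddMonoidHom.mk' (fun x p => lin (phiRows.getD (H90.idx p).val []) (rep x))
    fun a b => funext fun p => by
      show lin _ (rep (a + b)) = _
      rw [rep_add, lin_add]; rfl

/-- the coordinates of the image of a basis vector -/
def imgC (j : Fin 24) : GolayPt → ℤ := fun p => lin (phiRows.getD (H90.idx p).val []) (genV j) / 4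

theorem img_ok : ∀ j : Fin 24, H96.Check.checkB (imgC j) = true ∧
    ∀ p, lin (phiRows.getD (H90.idx p).val []) (genV j) % 4 = 0 := by decide +kernel

theorem exists_image (x : icoSub) : ∃ z : leechLattice, ∀ p, preHom x p = 4 * (z : GolayPt → ℤ) p := by
  obtain ⟨n, rfl⟩ := exists_combo x
  let z : Fin 24 → leechLattice := fun j => ⟨imgC j, H96.Check.checkB_spec (img_ok j).1⟩
  refine ⟨∑ j, n j • z j, fun p => ?_⟩
  simp only [map_sum, map_zsmul, AddSubgroup.val_finset_sum, AddSubgroup.coe_zsmul,
    Finset.sum_apply, Pi.smul_apply, mul_sum, smul_eq_mul]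
  refine sum_congr rfl fun j _ => ?_
  have h := (img_ok j).2 p
  have e : preHom (genS j) p = lin (phiRows.getD (H90.idx p).val []) (genV j) := by
    show lin _ (rep (genS j)) = _
    rw [rep_genS]
  rw [e, mul_left_comm]
  congr 1
  show _ = 4 * (lin (phiRows.getD (H90.idx p).val []) (genV j) / 4)
  omega

/-- the image -/
noncomputable def phiFun (x : icoSub) : leechLattice := (exists_image x).choose

theorem phiFun_spec (x : icoSub) (p : GolayPt) :
    preHom x p = 4 * (phiFun x : GolayPt → ℤ) p := (exists_image x).choose_spec p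

/-- the isometry -/
noncomputable def phiHom : icoSub →+ leechLattice :=
  AddMonoidHom.mk' phiFun fun a b => Subtype.ext (funext fun p => by
    have ha := phiFun_spec a p
    have hb := phiFun_spec b p
    have hab := phiFun_spec (a + b) p
    rw [map_add, Pi.add_apply] at hab
    simp only [AddSubgroup.coe_add, Pi.add_apply]
    omega)

theorem phiHom_spec (x : icoSub) (p : GolayPt) :
    preHom x p = 4 * (phiHom x : GolayPt → ℤ) p := phiFun_spec x p

theorem phiHom_genS (j : Fin 24) : (phiHom (genS j) : GolayPt → ℤ) = imgC j := by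
  funext p
  have h := phiHom_spec (genS j) p
  have e : preHom (genS j) p = lin (phiRows.getD (H90.idx p).val []) (genV j) := by
    show lin _ (rep (genS j)) = _
    rw [rep_genS]
  rw [e] at h
  show _ = lin (phiRows.getD (H90.idx p).val []) (genV j) / 4
  omega

theorem inv_ok : ∀ a b : Fin 24, (∑ p : GolayPt,
    (invRows.getD a.val []).getD (H90.idx p).val 0 * (phiRows.getD (H90.idx p).val []).getD b.val 0)
      = if a = b then invDen else 0 := by decide +kernel

theorem phiHom_injective : Function.Injective phiHom := by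
  rw [injective_iff_map_eq_zero]
  intro x hx
  refine flHom_injective ?_
  rw [map_zero]
  funext k
  have h0 : ∀ p, (∑ i : Fin 24, (phiRows.getD (H90.idx p).val []).getD i.val 0 * fl (rep x) i) = 0 :=
    fun p => by
      rw [← lin_eq]
      have := phiHom_spec x p
      rw [hx] at this
      exact this.trans (mul_zero 4)
  have : invDen * fl (rep x) k = 0 := by
    calc invDen * fl (rep x) k
        = ∑ i : Fin 24, (if k = i then invDen else 0) * fl (rep x) i := by simp
      _ = ∑ p : GolayPt, (invRows.getD k.val []).getD (H90.idx p).val 0 *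
            ∑ i : Fin 24, (phiRows.getD (H90.idx p).val []).getD i.val 0 * fl (rep x) i := by
          simp only [← inv_ok, sum_mul, mul_sum, mul_assoc]
          exact sum_comm
      _ = 0 := sum_eq_zero fun p _ => by rw [h0, mul_zero]
  exact (mul_eq_zero.mp this).resolve_left (by decide)

/-- the checks on the combinations giving the generators -/
def comboB (n : List ℤ) (t : GolayPt → ℤ) : Bool :=
  (List.finRange 24).all fun i =>
    ((List.finRange 24).map fun j : Fin 24 => n.getD j.val 0 * imgC j (H90.pt i)).sum == t (H90.pt i)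

theorem combos_ok :
    ((List.finRange 24).all fun i => comboB (genCombos.getD i.val [])
      (Pi.single (H90.pt i) 4 - Pi.single none 4)) = true ∧
    comboB (genCombos.getD 24 []) (Pi.single none 8) = true ∧
    ((List.finRange 12).all fun r => comboB (genCombos.getD (25 + r.val) [])
      fun i => 2 * ((H90.wordOf (H90.rows.getD r.val 0) i).val : ℤ)) = true ∧
    comboB (genCombos.getD 37 []) oddVec = true := by decide +kernel

theorem phiHom_surjective : Function.Surjective phiHom := by
  intro y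
  let R : AddSubgroup (GolayPt → ℤ) := phiHom.range.map leechLattice.subtype
  have hR : ∀ (n : List ℤ) (t : GolayPt → ℤ), comboB n t = true → t ∈ R := by
    intro n t h
    refine ⟨phiHom (∑ j, n.getD j.val 0 • genS j), ⟨_, rfl⟩, funext fun p => ?_⟩
    simp only [comboB, List.all_eq_true, beq_iff_eq] at h
    have e := h (H90.idx p) (List.mem_finRange _)
    rw [H90.pt_idx] at e
    rw [← e, map_sum, AddSubgroup.coe_subtype, AddSubgroup.val_finset_sum, Finset.sum_apply,
      Fin.sum_univ_def]
    refine congrArg List.sum (List.map_congr_left fun j _ => ?_)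
    rw [map_zsmul, AddSubgroup.coe_zsmul, Pi.smul_apply, phiHom_genS, smul_eq_mul]
  obtain ⟨h1, h2, h3, h4⟩ := combos_ok
  have hle : leechLattice ≤ R := by
    refine H96.Check.le_of_gens R (fun j => ?_) (hR _ _ h2) (fun r hr => ?_) (hR _ _ h4)
    · have := hR _ _ (List.all_eq_true.mp h1 (H90.idx j) (List.mem_finRange _))
      rwa [H90.pt_idx] at this
    · obtain ⟨n, hn, rfl⟩ := List.getElem_of_mem hr
      have hn12 : n < 12 := hn
      have := hR _ _ (List.all_eq_true.mp h3 ⟨n, hn12⟩ (List.mem_finRange _))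
      rwa [List.getD_eq_getElem _ _ hn] at this
  obtain ⟨z, ⟨x, rfl⟩, e⟩ := hle y.2
  exact ⟨x, Subtype.ext e⟩

/-- the rational part -/
def bval (c : Q8) : ℤ := 4 * (c.x0.a + c.x0.b)

theorem bval_add (p q : Q8) : bval (p.add q) = bval p + bval q := by
  simp only [bval, Q8.add, Zt.add]; ring

theorem qip_add_right (x y z : H3) : qip x (y + z) = qip x y + qip x z := by
  simp [qip, mul_add, sum_add_distrib]

theorem dot_add_left (x y z : icoSub) :
    V3.dot (rep (x + y)) (rep z) = (V3.dot (rep x) (rep z)).add (V3.dot (rep y) (rep z)) :=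
  Q8.val_inj (by
    rw [Q8.val_add, V3.val_dot (rep_inI3 _) (rep_inI3 _), V3.val_dot (rep_inI3 _) (rep_inI3 _),
      V3.val_dot (rep_inI3 _) (rep_inI3 _), rep_val, rep_val, rep_val, rep_val]
    exact qip_add_left _ _ _)

theorem dot_add_right (x y z : icoSub) :
    V3.dot (rep x) (rep (y + z)) = (V3.dot (rep x) (rep y)).add (V3.dot (rep x) (rep z)) :=
  Q8.val_inj (by
    rw [Q8.val_add, V3.val_dot (rep_inI3 _) (rep_inI3 _), V3.val_dot (rep_inI3 _) (rep_inI3 _),
      V3.val_dot (rep_inI3 _) (rep_inI3 _), rep_val, rep_val, rep_val, rep_val]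
    exact qip_add_right _ _ _)

theorem gens_form : ∀ i j : Fin 24, dotL (vecL (imgC i)) (vecL (imgC j))
    = bval (V3.dot (genV i) (genV j)) := by decide +kernel

theorem ldot_list (u w : leechLattice) :
    ldot u w = dotL (vecL (u : GolayPt → ℤ)) (vecL (w : GolayPt → ℤ)) := by
  show dotInt _ _ = _
  unfold vecL
  rw [dotL_ofFn, dotInt, ← Equiv.sum_comp H90.ptEquiv]
  refine sum_congr rfl fun i _ => ?_
  rw [List.getD_eq_getElem _ _ (by simp), List.getElem_ofFn]
  rfl

theorem ldot_phi (x y : icoSub) :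
    ldot (phiHom x) (phiHom y) = bval (V3.dot (rep x) (rep y)) := by
  let f₁ : icoSub → icoSub →+ ℤ := fun x => AddMonoidHom.mk'
    (fun y => ldot (phiHom x) (phiHom y)) fun a b => by rw [map_add]; exact leechLike.add_right _ _ _
  let f₂ : icoSub → icoSub →+ ℤ := fun x => AddMonoidHom.mk'
    (fun y => bval (V3.dot (rep x) (rep y))) fun a b => by rw [dot_add_right, bval_add]
  let g₁ : icoSub →+ ℤ := AddMonoidHom.mk'
    (fun x => ldot (phiHom x) (phiHom y)) fun a b => by rw [map_add]; exact leechLike.add_left _ _ _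
  let g₂ : icoSub →+ ℤ := AddMonoidHom.mk'
    (fun x => bval (V3.dot (rep x) (rep y))) fun a b => by rw [dot_add_left, bval_add]
  refine DFunLike.congr_fun (show g₁ = g₂ from hom_ext fun i => ?_) x
  show f₁ (genS i) y = f₂ (genS i) y
  refine DFunLike.congr_fun (hom_ext fun j => ?_) y
  show ldot (phiHom (genS i)) (phiHom (genS j)) = bval (V3.dot (rep (genS i)) (rep (genS j)))
  rw [ldot_list, phiHom_genS, phiHom_genS, rep_genS, rep_genS]
  exact gens_form i j

/-- the bijection -/
noncomputable def phiEquiv : icoLeech ≃ leechLattice where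
  toFun x := phiHom (toS x)
  invFun y := ofS ((Equiv.ofBijective phiHom ⟨phiHom_injective, phiHom_surjective⟩).symm y)
  left_inv x := by
    show ofS ((Equiv.ofBijective phiHom _).symm
      (Equiv.ofBijective phiHom ⟨phiHom_injective, phiHom_surjective⟩ (toS x))) = x
    rw [Equiv.symm_apply_apply]; rfl
  right_inv y := (Equiv.ofBijective phiHom ⟨phiHom_injective, phiHom_surjective⟩).apply_symm_apply y

theorem phiEquiv_apply (x : icoLeech) : phiEquiv x = phiHom (toS x) := rfl

end H95.J2Sec
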