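import Cfsg.Agent.H95.J2Sec.Cent
import Cfsg.Agent.H91.J2Simple
import Cfsg.Agent.H68.CharP
import Cfsg.Agent.CompLayer
import Cfsg.Agent.S0824

/-!
The Hall-Janko group as the centraliser of an element of order five, modulo its centre.
-/

set_option autoImplicit false
set_option maxRecDepth 20000

namespace H95.J2Sec

open Cfsg Cfsg.Spor
open H96 H96.J2

/-- the group of scalars -/
noncomputable abbrev aGrp : Subgroup Co0 := Subgroup.zpowers aEl

/-- its centraliser -/
noncomputable abbrev cGrp : Subgroup Co0 := Subgroup.centralizer (aGrp : Set Co0)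

/-- the scalars and the centre inside the centraliser -/
noncomputable abbrev nGrp : Subgroup cGrp := (aGrp ⊔ Subgroup.center Co0).subgroupOf cGrp

theorem card_aGrp : Nat.card aGrp = 5 := by rw [Nat.card_zpowers, orderOf_aEl]

theorem mem_cGrp {g : Co0} : g ∈ cGrp ↔ g * aEl = aEl * g := by
  rw [Subgroup.mem_centralizer_iff]
  refine ⟨fun h => (h aEl (Subgroup.mem_zpowers _)).symm, fun h => ?_⟩
  rintro _ ⟨n, rfl⟩
  exact ((show Commute g aEl from h).zpow_right n).eq.symm

theorem sup_comm {c x : Co0} (hc : c ∈ cGrp) (hx : x ∈ aGrp ⊔ Subgroup.center Co0) :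
    c * x = x * c := by
  have hle : aGrp ⊔ Subgroup.center Co0 ≤ Subgroup.centralizer ({c} : Set Co0) :=
    sup_le (Subgroup.zpowers_le.mpr (Subgroup.mem_centralizer_singleton_iff.mpr (mem_cGrp.mp hc).symm))
      (Subgroup.center_le_centralizer _)
  exact (Subgroup.mem_centralizer_singleton_iff.mp (hle hx)).symm

instance nGrp_normal : nGrp.Normal := ⟨fun n hn g => by
  have h : (g : Co0) * n = n * g := sup_comm g.2 hn
  rw [show g * n = n * g from Subtype.ext h, mul_inv_cancel_right]
  exact hn⟩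

/-- the reflection group inside the centraliser -/
noncomputable def embC : twoJ2 →* cGrp :=
  emb.codRestrict cGrp fun t => mem_cGrp.mpr (aEl_comm t).symm

/-- onto the section -/
noncomputable def toSec : twoJ2 →* cGrp ⧸ nGrp := (QuotientGroup.mk' nGrp).comp embC

theorem toSec_surjective : Function.Surjective toSec := by
  intro q
  obtain ⟨c, rfl⟩ := QuotientGroup.mk_surjective q
  have hle : genGrp ≤ (toSec.range.comap (QuotientGroup.mk' nGrp)).map cGrp.subtype := by
    refine sup_le (Subgroup.zpowers_le.mpr ⟨⟨aEl, mem_cGrp.mpr rfl⟩, ?_, rfl⟩) ?_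
    · refine ⟨1, ?_⟩
      rw [map_one]
      exact ((QuotientGroup.eq_one_iff _).mpr
        (Subgroup.mem_subgroupOf.mpr (Subgroup.mem_sup_left (Subgroup.mem_zpowers aEl)))).symm
    · rintro _ ⟨t, rfl⟩
      exact ⟨embC t, ⟨t, rfl⟩, rfl⟩
  obtain ⟨d, hd, hdc⟩ := hle (centralizer_le (mem_cGrp.mp c.2))
  obtain rfl : d = c := Subtype.ext hdc
  exact hd

theorem toSec_ker : toSec.ker = Subgroup.center twoJ2 := by
  ext t
  rw [MonoidHom.mem_ker]
  constructor
  · intro h
    have hm : emb t ∈ aGrp ⊔ Subgroup.center Co0 := (QuotientGroup.eq_one_iff (embC t)).mp h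
    refine Subgroup.mem_center_iff.mpr fun s => emb_injective ?_
    rw [map_mul, map_mul]
    exact sup_comm (embC s).2 hm
  · intro h
    refine (QuotientGroup.eq_one_iff (embC t)).mpr ?_
    show emb t ∈ aGrp ⊔ Subgroup.center Co0
    rcases center_twoJ2 h with rfl | rfl
    · rw [map_one]; exact one_mem _
    · rw [emb_negElt]; exact Subgroup.mem_sup_right H95.negOne_mem_center

/-- the section is the Hall-Janko group -/
noncomputable def secEquiv : J2 ≃* cGrp ⧸ nGrp :=
  (QuotientGroup.quotientMulEquivOfEq toSec_ker.symm).trans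
    (QuotientGroup.quotientKerEquivOfSurjective toSec toSec_surjective)

theorem omega_a5 : Nonempty (alternatingGroup (Fin 5) ≃*
    Cfsg.Omega (ZMod 2) (Cfsg.quadFormMinus 1 (ZMod 2) 1 1)) := by
  obtain ⟨e⟩ := Cfsg.Agent.S0824.result (F := ZMod 2) (ZMod.card 2)
  have hmap : (Cfsg.Omega (ZMod 2) (Cfsg.quadFormMinus 1 (ZMod 2) 1 1)).map e.toMonoidHom =
      alternatingGroup (Fin 5) := by
    rw [← alternatingGroup.commutator_perm_eq
      (by rw [Nat.card_eq_fintype_card, Fintype.card_fin] : 5 ≤ Nat.card (Fin 5))]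
    show Subgroup.map _ (commutator _) = commutator _
    rw [commutator_def, commutator_def, Subgroup.map_commutator,
      Subgroup.map_top_of_surjective _ (show Function.Surjective e.toMonoidHom from e.surjective)]
  exact ⟨((e.subgroupMap _).trans (MulEquiv.subgroupCongr hmap)).symm⟩

theorem two_centralizer : ∃ z : J2, orderOf z = 2 ∧
    ∃ (Q : Subgroup (Subgroup.centralizer ({z} : Set J2))) (_ : Q.Normal),
      Cfsg.generalizedFittingSubgroup (Subgroup.centralizer ({z} : Set J2)) = Q ∧
      Cfsg.IsExtraspecial 2 Q ∧ Nat.card Q = 2 ^ 5 ∧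
      Nonempty ((Subgroup.centralizer ({z} : Set J2)) ⧸ Q ≃*
        Cfsg.Omega (ZMod 2) (Cfsg.quadFormMinus 1 (ZMod 2) 1 1)) ∧
      ∃ g : J2, (∃ hq : g * z * g⁻¹ ∈ Subgroup.centralizer ({z} : Set J2),
        (⟨g * z * g⁻¹, hq⟩ : Subgroup.centralizer ({z} : Set J2)) ∈ Q) ∧ g * z * g⁻¹ ≠ z := by
  haveI : Finite J2 := Nat.finite_of_card_ne_zero (by rw [card_J2]; norm_num)
  haveI : Fact (Nat.Prime 2) := ⟨Nat.prime_two⟩
  obtain ⟨χ, h⟩ := H89.J2Two.exists_data
  refine ⟨refl0bar, ?_, χ.ker, inferInstance, ?_, ?_, ?_, ?_, ?_⟩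
  · refine orderOf_eq_prime ?_ h.t_ne
    have hc : ∀ r ∈ H89.J2Two.R, r * refl0bar = refl0bar * r := fun r hr =>
      Subgroup.mem_centralizer_singleton_iff.mp (h.le hr)
    rcases h.center (refl0bar ^ 2) (pow_mem h.t_mem 2) (fun r hr => (Commute.pow_right (hc r hr) 2).eq)
      with e | e
    · exact e
    · exact absurd (by rwa [pow_two, mul_eq_left] at e) h.t_ne
  · have hker : IsPGroup 2 χ.ker := by
      refine h.isPGroup.of_injective
        ((Subgroup.subtype _).comp χ.ker.subtype |>.codRestrict H89.J2Two.R fun x => (h.ker _).mp x.2) ?_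
      intro a b hab
      exact Subtype.ext (Subtype.ext (congrArg (fun r : H89.J2Two.R => (r : J2)) hab))
    have hcore : Cfsg.pCore 2 (Subgroup.centralizer ({refl0bar} : Set J2)) = χ.ker := by
      refine le_antisymm ?_ (Cfsg.Comp.le_pCore inferInstance hker)
      haveI : IsSimpleGroup (alternatingGroup (Fin 5)) :=
        alternatingGroup.isSimpleGroup (by rw [Nat.card_eq_fintype_card, Fintype.card_fin])
      have hn := (inferInstance : (Cfsg.pCore 2 (Subgroup.centralizer ({refl0bar} : Set J2))).Normal).map χ h.surj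
      rcases hn.eq_bot_or_eq_top with hb | ht
      · exact (Subgroup.map_eq_bot_iff _).mp hb
      · exfalso
        have hp : IsPGroup 2 (⊤ : Subgroup (alternatingGroup (Fin 5))) :=
          ht ▸ (Cfsg.Comp.pCore_isPGroup 2).map χ
        obtain ⟨a, ha, ha1⟩ := H89.ExtraC.a5_five
        obtain ⟨k, hk⟩ := hp ⟨a, Subgroup.mem_top a⟩
        refine ha1 (orderOf_eq_one_iff.mp ?_)
        exact Nat.eq_one_of_dvd_coprimes ((Nat.coprime_primes (by norm_num) (by norm_num)).mpr
          (by norm_num : (5 : ℕ) ≠ 2) |>.pow_right k) (orderOf_dvd_of_pow_eq_one ha)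
          (orderOf_dvd_of_pow_eq_one (congrArg Subtype.val hk))
    rw [H68.gfs_eq_pCore_of_centralizer (p := 2), hcore]
    rw [hcore]
    intro x hx
    refine (h.ker x).mpr (h.centralizer_le (Subgroup.mem_centralizer_iff.mpr fun r hr => ?_))
    exact congrArg Subtype.val (Subgroup.mem_centralizer_iff.mp hx ⟨r, h.le hr⟩ ((h.ker _).mpr hr))
  · haveI : Finite stabBase := Nat.finite_of_card_ne_zero (by rw [card_stabBase]; norm_num)
    have e₁ : χ.ker = H89.J2Two.R.subgroupOf (Subgroup.centralizer ({refl0bar} : Set J2)) := by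
      ext x; exact h.ker x
    have hb : Function.Bijective (H89.J2Two.mkJ.subgroupMap stabBase) :=
      (Nat.bijective_iff_surjective_and_card _).mpr
        ⟨MonoidHom.subgroupMap_surjective _ _, card_stabBase.trans h.card_R.symm⟩
    exact extraspecial_of_equiv ((MulEquiv.ofBijective _ hb).trans
      ((Subgroup.subgroupOfEquivOfLe h.le).symm.trans (MulEquiv.subgroupCongr e₁.symm)))
      stab_extraspecial card_stabBase
  · have e₁ : χ.ker = H89.J2Two.R.subgroupOf (Subgroup.centralizer ({refl0bar} : Set J2)) := by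
      ext x; exact h.ker x
    rw [e₁, Nat.card_congr (Subgroup.subgroupOfEquivOfLe h.le).toEquiv, h.card_R]
    norm_num
  · obtain ⟨e⟩ := omega_a5
    exact ⟨(QuotientGroup.quotientKerEquivOfSurjective χ h.surj).trans e⟩
  · obtain ⟨g, hg, hne⟩ := h.fused_in
    exact ⟨g, ⟨h.le hg, (h.ker _).mpr hg⟩, hne⟩

theorem not_comm : ¬ IsMulCommutative J2 := by
  intro hc
  obtain ⟨a, b, hab⟩ := H91.J2A.J2_noncomm
  exact hab (hc.is_comm.comm a b)

end H95.J2Sec
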